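import Cfsg.Agent.Lib.SylowNumbers.Formula
import Cfsg.Agent.Lib.SmallGroups.Sylow

/-!
# Simple groups with fewer than `p ^ 2` Sylow `p`-subgroups

The intersections of two Sylow `p`-subgroups are the lines of a linear space whose lines have at
least `p + 1` points; two lines would need more than `p ^ 2` points.
-/

set_option autoImplicit false

namespace Cfsg.Agent.Lib.SylowSmall78.Basic

open Subgroup MulAction
open Cfsg.Agent.Lib.SylowNumbers.Actions

universe u

variable {G : Type u} [Group G] [Finite G] {p : ℕ} [Fact p.Prime]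

/-- Two Sylow subgroups meet in a subgroup of index `p`. -/
theorem relIndex_eq (hn : Nat.card (Sylow p G) < p ^ 2) {P Q : Sylow p G} (h : P ≠ Q) :
    (Q : Subgroup G).relIndex P = p := by
  have hp : p.Prime := Fact.out
  obtain ⟨k, hk⟩ := P.isPGroup'.card_orbit Q
  have hlt : p ^ k < p ^ 2 := lt_of_le_of_lt (hk ▸ Finite.card_subtype_le _) hn
  have hk2 : k < 2 := (Nat.pow_lt_pow_iff_right hp.one_lt).mp hlt
  rw [card_orbit_sylow_pair] at hk
  interval_cases k
  · exfalso
    rw [pow_zero, relIndex_eq_one] at hk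
    exact h (Sylow.ext (P.is_maximal' Q.isPGroup' hk).symm)
  · rwa [pow_one] at hk

theorem card_inf (hn : Nat.card (Sylow p G) < p ^ 2) {P Q : Sylow p G} (h : P ≠ Q) :
    p * Nat.card ((P : Subgroup G) ⊓ Q : Subgroup G) = Nat.card (P : Subgroup G) := by
  have h1 := relIndex_mul_relIndex ⊥ ((P : Subgroup G) ⊓ Q) (P : Subgroup G) bot_le inf_le_left
  rw [relIndex_bot_left, relIndex_bot_left, inf_relIndex_left, relIndex_eq hn h] at h1
  rw [mul_comm, h1]

/-- The line through two points is determined by any two of its points. -/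
theorem eq_inf (hn : Nat.card (Sylow p G) < p ^ 2) {P Q R T : Sylow p G} (h : P ≠ Q) (h' : R ≠ T)
    (hR : (P : Subgroup G) ⊓ Q ≤ R) (hT : (P : Subgroup G) ⊓ Q ≤ T) :
    (P : Subgroup G) ⊓ Q = (R : Subgroup G) ⊓ T := by
  refine Subgroup.eq_of_le_of_card_ge (le_inf hR hT) (le_of_eq ?_)
  refine Nat.eq_of_mul_eq_mul_left (Fact.out : p.Prime).pos ?_
  rw [card_inf hn h, card_inf hn h', P.card_eq_multiplicity, R.card_eq_multiplicity]

/-- Every line has at least `p + 1` points. -/
theorem le_card_line (hn : Nat.card (Sylow p G) < p ^ 2) {P Q : Sylow p G} (h : P ≠ Q) :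
    p ≤ ({R : Sylow p G | (P : Subgroup G) ⊓ Q ≤ R} \ {P}).ncard := by
  have hp : p.Prime := Fact.out
  set E := (P : Subgroup G) ⊓ Q with hE
  have hnorm : (P : Subgroup G) ≤ normalizer (E : Set G) :=
    le_normalizer_of_relIndex_eq P.isPGroup' inf_le_left
      (by rw [hE, inf_relIndex_left, relIndex_eq hn h])
  have hsub : orbit (P : Subgroup G) Q ⊆ {R : Sylow p G | E ≤ R} \ {P} := by
    rintro R ⟨⟨a, ha⟩, rfl⟩
    refine ⟨fun b hb => ?_, fun he => ?_⟩
    · show b ∈ ((a • Q : Sylow p G) : Subgroup G)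
      rw [Sylow.coe_subgroup_smul, Subgroup.mem_pointwise_smul_iff_inv_smul_mem, ← map_inv,
        MulAut.smul_def, MulAut.conj_apply, inv_inv]
      exact (inf_le_right : E ≤ Q) ((mem_normalizer_iff''.mp (hnorm ha) b).mp hb)
    · have he' : a • Q = P := he
      have hfix : a • P = P := Sylow.smul_eq_iff_mem_normalizer.mpr (le_normalizer ha)
      exact h (smul_left_cancel a (hfix.trans he'.symm))
  calc p = (orbit (P : Subgroup G) Q).ncard := by
        rw [← Nat.card_coe_set_eq, card_orbit_sylow_pair, relIndex_eq hn h]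
    _ ≤ _ := Set.ncard_le_ncard hsub (Set.toFinite _)

/-- All Sylow subgroups contain the intersection of any two of them. -/
theorem inf_le_all (hn : Nat.card (Sylow p G) < p ^ 2) {P Q : Sylow p G} (h : P ≠ Q)
    (T : Sylow p G) : (P : Subgroup G) ⊓ Q ≤ T := by
  classical
  have hp : p.Prime := Fact.out
  have := Fintype.ofFinite (Sylow p G)
  by_contra hT
  set E := (P : Subgroup G) ⊓ Q with hE
  set L : Finset (Sylow p G) := Finset.univ.filter fun R : Sylow p G => E ≤ (R : Subgroup G) with hL
  have hcardL : p + 1 ≤ L.card := by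
    have h1 := le_card_line hn h
    rw [Set.ncard_eq_toFinset_card'] at h1
    have h2 : ({R : Sylow p G | E ≤ (R : Subgroup G)} \ {P}).toFinset = L.erase P := by
      ext R; simp [hL, and_comm]
    rw [h2, Finset.card_erase_of_mem (by simp [hL, hE])] at h1
    have := hp.one_lt
    omega
  have hne : ∀ R ∈ L, R ≠ T := fun R hR e => hT (e ▸ (Finset.mem_filter.mp hR).2)
  let f : Sylow p G → Finset (Sylow p G) := fun R => (Finset.univ.filter fun X : Sylow p G =>
    (T : Subgroup G) ⊓ R ≤ (X : Subgroup G)).erase T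
  have hf : ∀ R ∈ L, p ≤ (f R).card := by
    intro R hR
    have h1 := le_card_line hn (hne R hR).symm
    rw [Set.ncard_eq_toFinset_card'] at h1
    refine h1.trans (le_of_eq (congrArg Finset.card ?_))
    ext X; simp [f, and_comm]
  have hdisj : (L : Set (Sylow p G)).PairwiseDisjoint f := by
    intro R hR R' hR' hRR'
    rw [Function.onFun, Finset.disjoint_left]
    intro X hX hX'
    obtain ⟨hXT, hX⟩ := Finset.mem_erase.mp hX
    obtain ⟨-, hX'⟩ := Finset.mem_erase.mp hX'
    have e1 := eq_inf hn (hne R hR).symm (Ne.symm hXT) inf_le_left (Finset.mem_filter.mp hX).2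
    have e2 := eq_inf hn (hne R' hR').symm (Ne.symm hXT) inf_le_left (Finset.mem_filter.mp hX').2
    have e3 : (T : Subgroup G) ⊓ R = (R : Subgroup G) ⊓ R' := by
      refine eq_inf hn (hne R hR).symm hRR' inf_le_right ?_
      rw [e1, ← e2]; exact inf_le_right
    have e4 : E = (R : Subgroup G) ⊓ R' :=
      eq_inf hn h hRR' (Finset.mem_filter.mp hR).2 (Finset.mem_filter.mp hR').2
    exact hT (e4.trans e3.symm ▸ inf_le_left)
  have hsum : p * L.card + 1 ≤ Nat.card (Sylow p G) := by
    rw [Nat.card_eq_fintype_card, ← Finset.card_univ]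
    have h1 : L.biUnion f ⊆ Finset.univ.erase T := fun X hX => by
      obtain ⟨R, -, hX⟩ := Finset.mem_biUnion.mp hX
      exact Finset.mem_erase.mpr ⟨(Finset.mem_erase.mp hX).1, Finset.mem_univ _⟩
    have h2 := Finset.card_le_card h1
    rw [Finset.card_biUnion hdisj, Finset.card_erase_of_mem (Finset.mem_univ _)] at h2
    have h3 : p * L.card ≤ ∑ R ∈ L, (f R).card := by
      rw [mul_comm]
      exact (Finset.card_nsmul_le_sum L _ p hf)
    have h4 : 0 < (Finset.univ : Finset (Sylow p G)).card := Finset.card_pos.mpr ⟨T, Finset.mem_univ _⟩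
    omega
  have := Nat.mul_le_mul_left p hcardL
  rw [sq] at hn
  nlinarith

/-- In a simple group the Sylow subgroups then have order `p`. -/
theorem card_sylow_subgroup [IsSimpleGroup G] (hn : Nat.card (Sylow p G) < p ^ 2)
    (h1 : Nat.card (Sylow p G) ≠ 1) (P : Sylow p G) : Nat.card (P : Subgroup G) = p := by
  have hnt : ∃ Q : Sylow p G, P ≠ Q := by
    by_contra hc
    push Not at hc
    have : Subsingleton (Sylow p G) := ⟨fun a b => (hc a).symm.trans (hc b)⟩
    exact h1 (Nat.card_unique)
  obtain ⟨Q, hQ⟩ := hnt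
  have hPtop : (P : Subgroup G) ≠ ⊤ := by
    intro e
    exact hQ (Sylow.ext (Q.is_maximal' P.isPGroup' (le_top.trans e.ge)))
  have hbot : (P : Subgroup G) ⊓ Q = ⊥ := by
    rw [eq_bot_iff, ← SmallGroups.Sylow.normalCore_eq_bot hPtop]
    intro a ha b
    have := inf_le_all hn hQ (b⁻¹ • P) ha
    rwa [Sylow.coe_subgroup_smul, Subgroup.mem_pointwise_smul_iff_inv_smul_mem, ← map_inv,
      inv_inv, MulAut.smul_def, MulAut.conj_apply] at this
  have := card_inf hn hQ
  rwa [hbot, card_bot, mul_one, eq_comm] at this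

end Cfsg.Agent.Lib.SylowSmall78.Basic
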