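import Cfsg.Agent.Lib.FirstPower.PerfectFew.Formula

/-!
# Prime powers congruent to one have no intermediate factor
-/

set_option autoImplicit false

namespace Cfsg.Agent.Lib.SylowSmall78.Arith

open Cfsg.Agent.Lib.FirstPower.PerfectFew

theorem pos_of_eq {p r u k : ℕ} (hu : 0 < u) (hk : 0 < k) (hr : r < p)
    (h : r * (u + 1) = k * u * p + u ^ 2 + u + k) : k = 1 := by
  by_contra hne
  have h1 : 2 * (u * p) ≤ k * u * p := by
    rw [mul_assoc]; exact Nat.mul_le_mul_right _ (by omega)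
  have h2 : r * (u + 1) + (u + 1) ≤ p * (u + 1) := by
    rw [← Nat.succ_mul]; exact Nat.mul_le_mul_right _ hr
  nlinarith [Nat.mul_le_mul_right p hu]

/-- A Sylow number below `p ^ 2` which is a prime power has no intermediate factor. -/
theorem noFactor {p q a r : ℕ} (hq : q.Prime) (hp : p.Prime) (h : r * p + 1 = q ^ a) (hr : r < p) :
    Formula.NoFactor p r := by
  intro u hu hur hd
  obtain ⟨k, hk, he⟩ := Formula.exists_h hp.one_le hur hd
  obtain rfl := pos_of_eq hu hk hr he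
  rw [one_mul] at he
  -- `n w = (u p + 1) (p + w)` with `w = u + 1`
  have key : q ^ a * (u + 1) = (u * p + 1) * (p + (u + 1)) := by
    rw [← h]
    calc (r * p + 1) * (u + 1) = p * (r * (u + 1)) + (u + 1) := by ring
      _ = _ := by rw [he]; ring
  have hsq : (u + 1) ^ 2 + 1 ≤ p := by
    have h2 : r * (u + 1) + (u + 1) ≤ p * (u + 1) := by
      rw [← Nat.succ_mul]; exact Nat.mul_le_mul_right _ hr
    nlinarith
  have hwlt : u + 1 < p := by nlinarith
  have hcop : Nat.Coprime (p + (u + 1)) (u + 1) := by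
    rw [Nat.coprime_add_self_left]
    exact hp.coprime_iff_not_dvd.mpr fun hd' => by
      have := Nat.le_of_dvd (Nat.succ_pos u) hd'
      omega
  have hd1 : p + (u + 1) ∣ q ^ a := hcop.dvd_of_dvd_mul_right (key ▸ dvd_mul_left _ _)
  obtain ⟨s, hs⟩ : u + 1 ∣ u * p + 1 := hcop.symm.dvd_of_dvd_mul_right (key ▸ dvd_mul_left _ _)
  have hqs : q ^ a = s * (p + (u + 1)) := by
    rw [hs] at key
    refine Nat.eq_of_mul_eq_mul_right (show 0 < u + 1 by omega) ?_
    rw [key]; ring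
  obtain ⟨i, -, hi⟩ := (Nat.dvd_prime_pow hq).mp hd1
  obtain ⟨j, -, hj⟩ := (Nat.dvd_prime_pow hq).mp (show s ∣ q ^ a from hqs ▸ dvd_mul_right _ _)
  have hA : ((u : ℤ) ^ 2 + u - 1) = (u : ℤ) * ((p : ℤ) + ((u : ℤ) + 1)) - ((u : ℤ) * p + 1) := by ring
  rcases Nat.le_total i j with hij | hji
  · have hd2 : p + (u + 1) ∣ u * p + 1 :=
      ((hi ▸ hj ▸ Nat.pow_dvd_pow q hij : p + (u + 1) ∣ s).mul_left (u + 1)).trans hs.symm.dvd
    obtain ⟨c, hc⟩ : ((p + (u + 1) : ℕ) : ℤ) ∣ ((u : ℤ) ^ 2 + u - 1) := by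
      rw [hA]
      exact dvd_sub (Dvd.intro_left _ (by push_cast; rfl))
        (by exact_mod_cast Int.natCast_dvd_natCast.mpr hd2)
    have hpos : (0 : ℤ) < (u : ℤ) ^ 2 + u - 1 := by
      have : (1 : ℤ) ≤ u := by exact_mod_cast hu
      nlinarith
    have hle := Int.le_of_dvd hpos ⟨c, hc⟩
    push_cast at hle
    have hsq' : ((u : ℤ) + 1) ^ 2 + 1 ≤ p := by exact_mod_cast hsq
    nlinarith
  · have hd2 : s ∣ p + (u + 1) := hi ▸ hj ▸ Nat.pow_dvd_pow q hji
    obtain ⟨c, hc⟩ : (s : ℤ) ∣ ((u : ℤ) ^ 2 + u - 1) := by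
      rw [hA]
      refine dvd_sub ((show (s : ℤ) ∣ ((p + (u + 1) : ℕ) : ℤ) from
        Int.natCast_dvd_natCast.mpr hd2).trans (Dvd.intro_left _ (by push_cast; rfl))) ?_
      exact (show (s : ℤ) ∣ ((u * p + 1 : ℕ) : ℤ) from
        Int.natCast_dvd_natCast.mpr ⟨u + 1, by rw [hs]; ring⟩).trans (by push_cast; rfl)
    have hpos : (0 : ℤ) < (u : ℤ) ^ 2 + u - 1 := by
      have : (1 : ℤ) ≤ u := by exact_mod_cast hu
      nlinarith
    have hle := Int.le_of_dvd hpos ⟨c, hc⟩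
    have hsq' : ((u : ℤ) + 1) ^ 2 + 1 ≤ p := by exact_mod_cast hsq
    have hs' : (u : ℤ) * p + 1 = ((u : ℤ) + 1) * s := by exact_mod_cast hs
    have h1 := mul_le_mul_of_nonneg_left hle (show (0 : ℤ) ≤ (u : ℤ) + 1 by positivity)
    have h2 := mul_le_mul_of_nonneg_left hsq' (show (0 : ℤ) ≤ (u : ℤ) by positivity)
    nlinarith

end Cfsg.Agent.Lib.SylowSmall78.Arith
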