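import Cfsg.Agent.Lib.SylowNumbers.Formula
import Cfsg.Agent.Lib.SmallGroups.Sylow
import Cfsg.Agent.Lib.PSolvable.Basic
import Cfsg.Agent.Lib.Coprime.Glauberman
import Cfsg.Agent.Lib.Cores.Basic

/-!
# The Sylow number of a `p`-solvable group, when below `p ^ 2`, is a prime power
-/

set_option autoImplicit false

namespace Cfsg.Agent.Lib.SylowSmall78.Solvable

open Subgroup MulAction
open Cfsg.Agent.Lib.SylowNumbers
open scoped Pointwise

universe u

variable {G : Type u} [Group G] [Finite G] {p : ℕ} [Fact p.Prime]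

/-- A normal `p'`-subgroup: every primary part of `|K : N_K(P)|` is congruent to one. -/
theorem primary_modEq (K : Subgroup G) [K.Normal] (hK : (Nat.card K).Coprime p) (P : Sylow p G)
    {l : ℕ} (hl : l.Prime) :
    l ^ ((normalizer ((P : Subgroup G) : Set G)).relIndex K).factorization l % p = 1 := by
  have hp : p.Prime := Fact.out
  have : Fact l.Prime := ⟨hl⟩
  set N := normalizer ((P : Subgroup G) : Set G) with hN
  obtain ⟨k, hk⟩ := IsPGroup.iff_card.mp P.isPGroup'
  have hcop : (Nat.card (P : Subgroup G)).Coprime (Nat.card K) := by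
    rw [hk]; exact (Nat.Coprime.pow_left k hK.symm)
  have hKP : ∀ y ∈ K ⊓ N, ∀ a ∈ (P : Subgroup G), a * y = y * a := by
    intro y hy a ha
    have h1 : y⁻¹ * a * y * a⁻¹ ∈ (P : Subgroup G) :=
      mul_mem ((mem_normalizer_iff''.mp hy.2 a).mp ha) (inv_mem ha)
    have h2 : y⁻¹ * a * y * a⁻¹ ∈ K := by
      rw [show y⁻¹ * a * y * a⁻¹ = y⁻¹ * (a * y * a⁻¹) by group]
      exact mul_mem (inv_mem hy.1) ((inferInstance : K.Normal).conj_mem y hy.1 a)
    have h3 : y⁻¹ * a * y * a⁻¹ ∈ ((P : Subgroup G) ⊓ K) := ⟨h1, h2⟩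
    rw [inf_eq_bot_of_coprime hcop, mem_bot] at h3
    have h4 := congrArg (fun z => y * z * a) h3
    simpa [mul_assoc] using h4
  obtain ⟨S⟩ : Nonempty (Sylow l (K ⊓ N : Subgroup G)) := inferInstance
  set U := (S : Subgroup (K ⊓ N : Subgroup G)).map (K ⊓ N).subtype with hU
  have hUle : U ≤ K ⊓ N := map_subtype_le _
  have hUA : (P : Subgroup G) ≤ normalizer (U : Set G) := by
    intro a ha
    rw [mem_normalizer_iff]
    intro y
    constructor
    · intro hy
      rwa [hKP y (hUle hy) a ha, mul_inv_cancel_right]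
    · intro hy
      have := hKP _ (hUle hy) a⁻¹ (inv_mem ha)
      rw [show a⁻¹ * (a * y * a⁻¹) = y * a⁻¹ by group] at this
      rw [mul_right_cancel this]; exact hy
  have hKn : (P : Subgroup G) ≤ normalizer (K : Set G) :=
    normalizer_eq_top (H := K) ▸ le_top
  have hsolv : Group.IsSolvable (P : Subgroup G) := by
    have : Group.IsNilpotent (P : Subgroup G) := P.isPGroup'.isNilpotent
    infer_instance
  obtain ⟨T, hUT, hPT⟩ := Coprime.exists_invariant_sylow_ge hKn hcop (Or.inl hsolv) l U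
    (hUle.trans inf_le_left) (S.isPGroup'.map _) hUA
  set L := (T : Subgroup K).map K.subtype with hL
  have hLK : L ≤ K := map_subtype_le _
  have hcardL : Nat.card L = l ^ (Nat.card K).factorization l := by
    rw [hL, card_map_of_injective K.subtype_injective, T.card_eq_multiplicity]
  have hLN : L ⊓ N = U := by
    refine (eq_of_le_of_card_ge (le_inf hUT (hUle.trans inf_le_right)) ?_).symm
    have hUc : Nat.card U = l ^ (Nat.card (K ⊓ N : Subgroup G)).factorization l := by
      rw [hU, card_map_of_injective (subtype_injective _), S.card_eq_multiplicity]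
    obtain ⟨i, hi⟩ := IsPGroup.iff_card.mp ((T.isPGroup'.map K.subtype).to_le (inf_le_left : L ⊓ N ≤ L))
    have hd : Nat.card (L ⊓ N : Subgroup G) ∣ Nat.card (K ⊓ N : Subgroup G) :=
      card_dvd_of_le (inf_le_inf_right N hLK)
    rw [hi] at hd
    rw [hUc, hi]
    exact Nat.pow_le_pow_right hl.pos ((hl.pow_dvd_iff_le_factorization Nat.card_pos.ne').mp hd)
  have hrelL : N.relIndex L = l ^ (N.relIndex K).factorization l := by
    have h1 := relIndex_mul_relIndex ⊥ (L ⊓ N) L bot_le inf_le_left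
    rw [relIndex_bot_left, relIndex_bot_left, inf_comm L N, inf_relIndex_right, inf_comm N L, hLN,
      hcardL, hU, card_map_of_injective (subtype_injective _), S.card_eq_multiplicity] at h1
    have h2 := relIndex_mul_relIndex ⊥ (K ⊓ N) K bot_le inf_le_left
    rw [relIndex_bot_left, relIndex_bot_left, inf_comm K N, inf_relIndex_right, inf_comm N K] at h2
    have hr0 : N.relIndex K ≠ 0 := fun h => Nat.card_pos.ne' (by rw [← h2, h, mul_zero])
    rw [← h2, Nat.factorization_mul Nat.card_pos.ne' hr0, Finsupp.add_apply, pow_add] at h1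
    exact Nat.eq_of_mul_eq_mul_left (pow_pos hl.pos _) h1
  have hM : N.relIndex ((P : Subgroup G) ⊔ L) = N.relIndex L := by
    rw [hN, ← Actions.card_orbit_sylow, ← Actions.card_orbit_sylow]
    refine Nat.card_congr (Equiv.setCongr ?_)
    ext Q
    constructor
    · rintro ⟨⟨m, hm⟩, rfl⟩
      have hm' : m ∈ ((L : Set G) * ((P : Subgroup G) : Set G)) := by
        rw [← coe_mul_of_right_le_normalizer_left L (P : Subgroup G) hPT, sup_comm]
        exact hm
      obtain ⟨y, hy, a, ha, rfl⟩ := Set.mem_mul.mp hm'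
      refine ⟨⟨y, hy⟩, ?_⟩
      show y • P = (y * a) • P
      rw [mul_smul, Sylow.smul_eq_iff_mem_normalizer.mpr (le_normalizer ha)]
    · rintro ⟨⟨y, hy⟩, rfl⟩
      exact ⟨⟨y, mem_sup_right hy⟩, rfl⟩
  have := Actions.relIndex_normalizer_modEq_one P (le_sup_left : (P : Subgroup G) ≤ (P : Subgroup G) ⊔ L)
  rwa [← hN, hM, hrelL] at this

/-- A number below `p ^ 2` whose primary parts are congruent to one modulo `p` is a prime power. -/
theorem exists_prime_pow {r : ℕ} (hr0 : r ≠ 0) (hr : r < p ^ 2)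
    (h : ∀ l : ℕ, l.Prime → l ^ r.factorization l % p = 1) :
    ∃ q k : ℕ, q.Prime ∧ r = q ^ k := by
  have hp : p.Prime := Fact.out
  by_cases h1 : r = 1
  · exact ⟨2, 0, Nat.prime_two, by rw [h1, pow_zero]⟩
  obtain ⟨q, hq, hqr⟩ := Nat.exists_prime_and_dvd h1
  refine ⟨q, r.factorization q, hq, ?_⟩
  by_contra hne
  have hbig : ∀ l : ℕ, l.Prime → l ∣ r → p + 1 ≤ l ^ r.factorization l := by
    intro l hl hlr
    have h2 : 1 < l ^ r.factorization l :=
      Nat.one_lt_pow (hl.factorization_pos_of_dvd hr0 hlr).ne' hl.one_lt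
    have h3 := Nat.div_add_mod (l ^ r.factorization l) p
    rw [h l hl] at h3
    rcases Nat.eq_zero_or_pos (l ^ r.factorization l / p) with h0 | h0
    · rw [h0, mul_zero] at h3; omega
    · have := Nat.le_mul_of_pos_right p h0; omega
  have hd := Nat.ordProj_mul_ordCompl_eq_self r q
  have h4 : ordCompl[q] r ≠ 1 := fun e => hne (by rw [e, mul_one] at hd; exact hd.symm)
  obtain ⟨s, hs, hsr⟩ := Nat.exists_prime_and_dvd h4
  have hsq : s ≠ q := fun e => Nat.not_dvd_ordCompl hq hr0 (e ▸ hsr)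
  have hsr' : s ∣ r := hsr.trans (Nat.ordCompl_dvd r q)
  have h5 : q ^ r.factorization q * s ^ r.factorization s ∣ r :=
    Nat.Coprime.mul_dvd_of_dvd_of_dvd (Nat.Coprime.pow _ _ ((Nat.coprime_primes hq hs).mpr hsq.symm))
      (Nat.ordProj_dvd r q) (Nat.ordProj_dvd r s)
  have h6 := Nat.le_of_dvd (Nat.pos_of_ne_zero hr0) h5
  have h7 := Nat.mul_le_mul (hbig q hq hqr) (hbig s hs hsr')
  rw [sq] at hr
  nlinarith

theorem prime_pow_aux (c : ℕ) : ∀ (G : Type u) [Group G] [Finite G], Nat.card G = c →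
    Cfsg.IsPSolvable p G → Nat.card (Sylow p G) < p ^ 2 →
    ∃ q k : ℕ, q.Prime ∧ Nat.card (Sylow p G) = q ^ k := by
  induction c using Nat.strong_induction_on with
  | _ c ih =>
  intro G _ _ hc hsol hn
  have hp : p.Prime := Fact.out
  obtain ⟨P⟩ : Nonempty (Sylow p G) := inferInstance
  rcases subsingleton_or_nontrivial G with hG | hG
  · have : Subsingleton (Sylow p G) := ⟨fun a b => Sylow.ext (Subsingleton.elim _ _)⟩
    exact ⟨2, 0, Nat.prime_two, Nat.card_unique⟩
  obtain ⟨K, hKn, hKb, hK⟩ : ∃ K : Subgroup G, K.Normal ∧ K ≠ ⊥ ∧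
      (IsPGroup p K ∨ (Nat.card K).Coprime p) := by
    rcases PSolvable.cores_ne_bot hsol with h | h
    · exact ⟨_, inferInstance, h, Or.inl (Cores.pCore_isPGroup p)⟩
    · exact ⟨_, inferInstance, h, Or.inr (Cores.pPrimeCore_coprime p)⟩
  have hlt : Nat.card (G ⧸ K) < c := by
    rw [← hc, ← index_mul_card K]
    exact lt_mul_of_one_lt_right (Nat.pos_of_ne_zero index_ne_zero_of_finite)
      (one_lt_card_iff_ne_bot K |>.mpr hKb)
  have hmul := Formula.card_sylow_mul K P
  set r := (normalizer ((P : Subgroup G) : Set G)).relIndex K with hr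
  by_cases hr1 : r = 1
  · rw [hr1, mul_one] at hmul
    obtain ⟨q, k, hq, hk⟩ := ih _ hlt (G ⧸ K) rfl (PSolvable.isPSolvable_quotient hsol K) (hmul ▸ hn)
    exact ⟨q, k, hq, hmul.trans hk⟩
  have hr2 : r % p = 1 := by
    rw [hr, ← Formula.card_sylow_sup K P]
    exact SmallGroups.Sylow.card_sylow_mod
  have hrge : p + 1 ≤ r := by
    have h3 := Nat.div_add_mod r p
    rcases Nat.eq_zero_or_pos (r / p) with h0 | h0
    · rw [h0, mul_zero] at h3; omega
    · have := Nat.le_mul_of_pos_right p h0; omega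
  have hq1 : Nat.card (Sylow p (G ⧸ K)) = 1 := by
    by_contra hne
    have hm : Nat.card (Sylow p (G ⧸ K)) % p = 1 := SmallGroups.Sylow.card_sylow_mod
    have h3 := Nat.div_add_mod (Nat.card (Sylow p (G ⧸ K))) p
    have hge : p + 1 ≤ Nat.card (Sylow p (G ⧸ K)) := by
      rcases Nat.eq_zero_or_pos (Nat.card (Sylow p (G ⧸ K)) / p) with h0 | h0
      · rw [h0, mul_zero] at h3; omega
      · have := Nat.le_mul_of_pos_right p h0; omega
    have := Nat.mul_le_mul hge hrge
    rw [hmul, sq] at hn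
    nlinarith
  rw [hq1, one_mul] at hmul
  rcases hK with hKp | hKp
  · refine absurd ?_ hr1
    rw [hr, relIndex_eq_one]
    exact le_trans ((Cores.le_pCore hKp).trans (Cores.pCore_le_sylow P)) le_normalizer
  · obtain ⟨q, k, hq, hk⟩ := exists_prime_pow (p := p) (r := r) (by omega) (hmul ▸ hn)
      (fun l hl => primary_modEq K hKp P hl)
    exact ⟨q, k, hq, hmul.trans hk⟩

end Cfsg.Agent.Lib.SylowSmall78.Solvable
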