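import Cfsg.Agent.Lib.SylowSmall78.Simple
import Cfsg.Agent.Lib.SylowSmall78.Solvable

/-!
# Fewer than `p ^ 2` Sylow `p`-subgroups: `p`-solvable iff a prime power of them
-/

set_option autoImplicit false

namespace Cfsg.Agent.Lib.SylowSmall78.Main

open Subgroup
open Cfsg.Agent.Lib.SylowNumbers

universe u

variable {p : ℕ} [Fact p.Prime]

theorem isPSolvable_aux (hM : ¬ (3 < p ∧ ∃ k : ℕ, p + 1 = 2 ^ k)) {q : ℕ} (hq : q.Prime) (c : ℕ) :
    ∀ (G : Type u) [Group G] [Finite G], Nat.card G = c → Nat.card (Sylow p G) < p ^ 2 →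
      (∃ a, Nat.card (Sylow p G) = q ^ a) → Cfsg.IsPSolvable p G := by
  induction c using Nat.strong_induction_on with
  | _ c ih =>
  intro G _ _ hc hn ⟨a, ha⟩
  have hp : p.Prime := Fact.out
  by_cases hd : p ∣ Nat.card G
  swap
  · exact PSolvable.isPSolvable_of_coprime ((hp.coprime_iff_not_dvd.mpr hd).symm)
  have : Nontrivial G := by
    rw [← Finite.one_lt_card_iff_nontrivial]
    exact lt_of_lt_of_le hp.one_lt (Nat.le_of_dvd Nat.card_pos hd)
  by_cases hs : ∃ N : Subgroup G, N.Normal ∧ N ≠ ⊥ ∧ N ≠ ⊤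
  · obtain ⟨N, hNn, hNb, hNt⟩ := hs
    obtain ⟨S⟩ : Nonempty (Sylow p N) := inferInstance
    obtain ⟨P, hP⟩ := Sylow.exists_comap_subtype_eq S
    have hmul := Formula.card_sylow_mul N P
    have hdN : Nat.card (Sylow p N) ∣ (normalizer ((P : Subgroup G) : Set G)).relIndex N := by
      rw [Formula.card_sylow_eq_index S]
      refine index_dvd_of_le ?_
      intro y hy
      have hy' : (y : G) ∈ normalizer ((P : Subgroup G) : Set G) := hy
      rw [← hP, mem_normalizer_iff]
      intro z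
      exact mem_normalizer_iff.mp hy' (z : G)
    have hpow : ∀ m, m ∣ Nat.card (Sylow p G) → ∃ b, m = q ^ b := fun m hm => by
      obtain ⟨b, -, hb⟩ := (Nat.dvd_prime_pow hq).mp (ha ▸ hm)
      exact ⟨b, hb⟩
    have hdQ : Nat.card (Sylow p (G ⧸ N)) ∣ Nat.card (Sylow p G) := hmul ▸ dvd_mul_right _ _
    have hdN' : Nat.card (Sylow p N) ∣ Nat.card (Sylow p G) :=
      hdN.trans (hmul ▸ dvd_mul_left _ _)
    have hidx : 1 < N.index := one_lt_index_of_ne_top hNt
    have hcardN : 1 < Nat.card N := one_lt_card_iff_ne_bot N |>.mpr hNb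
    have hci : N.index * Nat.card N = c := (index_mul_card N).trans hc
    refine PSolvable.isPSolvable_of_extension N ?_ ?_
    · exact ih _ (hci ▸ lt_mul_of_one_lt_left Nat.card_pos hidx) N rfl
        (lt_of_le_of_lt (Nat.le_of_dvd Nat.card_pos hdN') hn) (hpow _ hdN')
    · exact ih _ (hci ▸ lt_mul_of_one_lt_right (Nat.pos_of_ne_zero index_ne_zero_of_finite) hcardN)
        (G ⧸ N) rfl (lt_of_le_of_lt (Nat.le_of_dvd Nat.card_pos hdQ) hn) (hpow _ hdQ)
  · push Not at hs
    have : IsSimpleGroup G := ⟨fun N hN => or_iff_not_imp_left.mpr (hs N hN)⟩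
    by_cases hG : IsMulCommutative G
    · have : Group.IsSolvable G := Group.isSolvable_of_comm fun x y => hG.is_comm.comm x y
      exact PSolvable.isPSolvable_of_isSolvable
    · exact (Simple.false_of_prime_pow hG hd hn hM hq ha).elim

end Cfsg.Agent.Lib.SylowSmall78.Main
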