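import Cfsg.Agent.Lib.SylowSmall78.Basic
import Cfsg.Agent.Lib.SylowSmall78.Arith
import Cfsg.Agent.Lib.FirstPower.PerfectFew.Main
import Cfsg.Agent.Lib.FirstPower.PerfectFew.SelfCentralizing
import Cfsg.Agent.Lib.Linear.Order

/-!
# A simple group with fewer than `p ^ 2` Sylow `p`-subgroups, a prime power of them
-/

set_option autoImplicit false

namespace Cfsg.Agent.Lib.SylowSmall78.Simple

open Cfsg.Agent.Lib.FirstPower
open Subgroup

universe u

theorem prime_pow_eq_two {q a n : ℕ} (hq : q.Prime) (h : n = q ^ a) (h2 : 2 ∣ n) : q = 2 :=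
  ((Nat.prime_dvd_prime_iff_eq Nat.prime_two hq).mp (Nat.prime_two.dvd_of_dvd_pow (h ▸ h2))).symm

theorem false_of_prime_pow {G : Type u} [Group G] [Finite G] [IsSimpleGroup G]
    (hG : ¬ IsMulCommutative G) {p : ℕ} [Fact p.Prime] (hdvd : p ∣ Nat.card G)
    (hn : Nat.card (Sylow p G) < p ^ 2)
    (hM : ¬ (3 < p ∧ ∃ k : ℕ, p + 1 = 2 ^ k)) {q a : ℕ} (hq : q.Prime)
    (hqa : Nat.card (Sylow p G) = q ^ a) : False := by
  have hp : p.Prime := Fact.out
  have hperf := SmallGroups.Sylow.commutator_eq_top hG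
  obtain ⟨P⟩ : Nonempty (Sylow p G) := inferInstance
  have hne1 : Nat.card (Sylow p G) ≠ 1 := by
    intro h1
    have : Subsingleton (Sylow p G) := (Nat.card_eq_one_iff_unique.mp h1).1
    have : (P : Subgroup G).Normal := P.normal_of_subsingleton
    rcases IsSimpleGroup.eq_bot_or_eq_top_of_normal (P : Subgroup G) inferInstance with hb | ht
    · have hd := P.not_dvd_index
      rw [hb, index_bot] at hd
      exact hd hdvd
    · have hGp : IsPGroup p G :=
        (IsPGroup.iff_card).mpr (by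
          obtain ⟨m, hm⟩ := IsPGroup.iff_card.mp P.isPGroup'
          exact ⟨m, by rw [← hm, ht, card_top]⟩)
      have : Nontrivial (center G) := hGp.center_nontrivial
      rcases IsSimpleGroup.eq_bot_or_eq_top_of_normal (center G) inferInstance with h | h
      · exact (Subgroup.nontrivial_iff_ne_bot _).mp this h
      · exact hG ⟨⟨fun x y => mem_center_iff.mp (by rw [h]; exact mem_top y) x⟩⟩
  have hPcard := Basic.card_sylow_subgroup hn hne1 P
  obtain ⟨⟨x, hxP⟩, hx'⟩ := exists_prime_orderOf_dvd_card' (G := (P : Subgroup G)) p (by rw [hPcard])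
  have hx : orderOf x = p := by rw [← hx', Subgroup.orderOf_mk]
  have h2 : ¬ p ^ 2 ∣ Nat.card G := by
    intro h
    have := P.pow_dvd_card_of_pow_dvd_card h
    rw [hPcard] at this
    have := Nat.le_of_dvd hp.pos this
    nlinarith [hp.two_le]
  have hF : ∀ r, Nat.card (Sylow p G) = r * p + 1 → PerfectFew.Formula.NoFactor p r := by
    intro r hr
    refine Arith.noFactor hq hp (hr.symm.trans hqa) ?_
    rw [hr, sq] at hn
    exact Nat.lt_of_mul_lt_mul_right (show r * p < p * p by omega)
  have hcore : Cfsg.pPrimeCore p G = ⊥ := by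
    rcases IsSimpleGroup.eq_bot_or_eq_top_of_normal (Cfsg.pPrimeCore p G) inferInstance with h | h
    · exact h
    · have h' := Cores.not_dvd_card_pPrimeCore (G := G) p
      rw [h, card_top] at h'
      exact absurd hdvd h'
  have hC := PerfectFew.self_centralizing_of_noFactor hperf hcore hx h2 hF
  have hcard : Nat.card G = Nat.card (Sylow p G) *
      (Nat.card (Average.autE (Family.pow_eq_one_of_order hx)) * p) := by
    rw [Consequences.card_eq hx h2 (Consequences.isVPart_bot hx hC), card_bot, mul_one]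
  set e := Nat.card (Average.autE (Family.pow_eq_one_of_order hx)) with he
  have he1 : 1 ≤ e := Nat.card_pos
  have hep : e < p := by
    have h := Finite.card_subtype_le (fun u => u ∈ Average.autE (Family.pow_eq_one_of_order hx))
    rw [Nat.card_units, Nat.card_zmod] at h
    have := hp.two_le
    exact lt_of_le_of_lt h (by omega)
  obtain ⟨r, hr⟩ : ∃ r, Nat.card (Sylow p G) = r * p + 1 := by
    refine ⟨Nat.card (Sylow p G) / p, ?_⟩
    have h : Nat.card (Sylow p G) % p = 1 := SmallGroups.Sylow.card_sylow_mod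
    conv_lhs => rw [← Nat.mod_add_div (Nat.card (Sylow p G)) p, h]
    ring
  rcases PerfectFew.main_of_noFactor hperf hx hC hF with ⟨F, _, _, hFc, hp3, ⟨iso⟩⟩ |
    ⟨m, F, _, _, hFc, hpm, hp3, ⟨iso⟩⟩
  · obtain ⟨t, ht⟩ : Odd p := hp.odd_of_ne_two (by omega)
    have hc := Linear.two_mul_card_PSL_two_of_odd (F := F) (by rw [hFc]; exact ⟨t, ht⟩)
    rw [← Nat.card_congr iso.toEquiv, hcard, hFc, hr] at hc
    have h1 : 2 * ((r * p + 1) * e) = (p - 1) * (p + 1) :=
      Nat.eq_of_mul_eq_mul_left hp.pos (by linear_combination hc)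
    rw [show p - 1 = 2 * t by omega] at h1
    have hZ : (p : ℤ) ∣ 2 * e + 1 := ⟨(2 : ℤ) * t + 1 - 2 * r * e, by
      have h1' : (2 : ℤ) * (((r : ℤ) * p + 1) * e) = 2 * t * (p + 1) := by exact_mod_cast h1
      have ht' : (p : ℤ) = 2 * t + 1 := by exact_mod_cast ht
      linear_combination h1' - ht'⟩
    obtain ⟨c, hc2⟩ := (Int.natCast_dvd_natCast.mp (by exact_mod_cast hZ) : p ∣ 2 * e + 1)
    rcases c with - | - | c
    · omega
    · have het : e = t := by omega
      have ht0 : 0 < t := by omega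
      have hnp : r * p + 1 = p + 1 :=
        Nat.eq_of_mul_eq_mul_right ht0 (by rw [het] at h1; linarith)
      have hnq : p + 1 = q ^ a := by rw [← hqa, hr, hnp]
      obtain rfl := prime_pow_eq_two hq hnq ⟨t + 1, by omega⟩
      exact hM ⟨hp3, a, hnq⟩
    · have := Nat.mul_le_mul_left p (show 2 ≤ c + 1 + 1 by omega)
      omega
  · have hm : m ≠ 0 := fun h => by rw [h, pow_zero] at hpm; omega
    have hc := Linear.card_PSL_two_of_even (F := F) (by rw [hFc]; exact (Nat.even_pow).mpr ⟨even_two, hm⟩)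
    rw [← Nat.card_congr iso.toEquiv, hcard, hFc, hr] at hc
    have h1 : (r * p + 1) * e = 2 ^ m * (2 ^ m - 1) :=
      Nat.eq_of_mul_eq_mul_right hp.pos (by rw [hpm] at hc ⊢; linear_combination hc)
    have hZ : (p : ℤ) ∣ (e : ℤ) - 2 := ⟨(p : ℤ) - 3 - r * e, by
      have h1' : ((r : ℤ) * p + 1) * e = ((p : ℤ) - 1) * ((p : ℤ) - 2) := by
        have h2' : (((r * p + 1) * e : ℕ) : ℤ) = ((2 ^ m * (2 ^ m - 1) : ℕ) : ℤ) := by rw [h1]
        rw [Nat.cast_mul (2 ^ m), Nat.cast_sub Nat.one_le_two_pow] at h2'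
        push_cast at h2'
        rw [show ((p : ℤ)) = (2 : ℤ) ^ m + 1 by exact_mod_cast hpm]
        rw [show ((p : ℤ)) = (2 : ℤ) ^ m + 1 by exact_mod_cast hpm] at h2'
        linear_combination h2'
      linear_combination h1'⟩
    have he2 : e = 2 := by
      obtain ⟨c, hc2⟩ := hZ
      have : c = 0 := by
        by_contra hne
        rcases lt_or_gt_of_ne hne with hlt | hgt
        · have := mul_le_mul_of_nonneg_left (show c ≤ -1 by omega) (Int.natCast_nonneg p)
          omega
        · have := mul_le_mul_of_nonneg_left (show 1 ≤ c by omega) (Int.natCast_nonneg p)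
          omega
      subst this
      omega
    obtain ⟨m, rfl⟩ := Nat.exists_eq_succ_of_ne_zero hm
    have hN : r * p + 1 = 2 ^ m * (2 ^ (m + 1) - 1) :=
      Nat.eq_of_mul_eq_mul_right two_pos (by rw [he2] at h1; rw [h1, pow_succ]; ring)
    have hm1 : m ≠ 0 := fun h => by subst h; simp at hpm; omega
    obtain rfl := prime_pow_eq_two hq (hN.symm.trans (hr.symm.trans hqa))
      ((dvd_pow_self 2 hm1).mul_right _)
    obtain ⟨i, -, hi⟩ := (Nat.dvd_prime_pow Nat.prime_two).mp
      (show 2 ^ (m + 1) - 1 ∣ 2 ^ a from ⟨2 ^ m, by rw [← hqa, hr, hN, mul_comm]⟩)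
    rcases i with - | i
    · have : 2 ≤ 2 ^ m := Nat.le_self_pow hm1 2
      rw [pow_succ, pow_zero] at hi
      omega
    · rw [pow_succ, pow_succ] at hi
      have := Nat.one_le_two_pow (n := m)
      omega

end Cfsg.Agent.Lib.SylowSmall78.Simple
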